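import Groth.Prelude.Def_DerLim
import Mathlib.Algebra.BigOperators.Intervals
import Mathlib.CategoryTheory.Functor.OfSequence
import Mathlib.CategoryTheory.Triangulated.Triangulated

/-!
# The homotopy colimit of a subsequence
-/

set_option autoImplicit false
set_option linter.unusedSectionVars false

universe v u

open CategoryTheory CategoryTheory.Limits Pretriangulated

namespace K733.Subseq

variable {D : Type u} [Category.{v} D] [Preadditive D]

section Sums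

variable (F : ℕ ⥤ D)

/-- transition maps, extended by zero -/
noncomputable def tr (m j : ℕ) : F.obj m ⟶ F.obj j := if h : m ≤ j then F.map (homOfLE h) else 0

lemma tr_of_le {m j : ℕ} (h : m ≤ j) : tr F m j = F.map (homOfLE h) := dif_pos h

lemma tr_self (m : ℕ) : tr F m m = 𝟙 _ := by
  rw [tr_of_le F le_rfl]
  exact F.map_id _

lemma tr_comp {m j l : ℕ} (h : m ≤ j) (h' : j ≤ l) : tr F m j ≫ tr F j l = tr F m l := by
  rw [tr_of_le F h, tr_of_le F h', tr_of_le F (h.trans h'), ← F.map_comp]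
  rfl

variable [HasCoproduct F.obj]

/-- one minus the shift -/
noncomputable abbrev d : (∐ F.obj) ⟶ ∐ F.obj :=
  𝟙 _ - DerLim.shiftMap F.obj (fun m : ℕ => F.map (homOfLE (Nat.le_succ m)))

lemma ι_d (m : ℕ) : Sigma.ι F.obj m ≫ d F =
    Sigma.ι F.obj m - tr F m (m + 1) ≫ Sigma.ι F.obj (m + 1) := by
  rw [Preadditive.comp_sub, Category.comp_id, DerLim.shiftMap, Sigma.ι_desc, tr_of_le F (Nat.le_succ m)]

/-- the sum of the transition maps `F m ⟶ F j` for `m ≤ j < l`. -/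
noncomputable def P (m l : ℕ) : F.obj m ⟶ ∐ F.obj :=
  ∑ j ∈ Finset.Ico m l, tr F m j ≫ Sigma.ι F.obj j

lemma P_self (m : ℕ) : P F m m = 0 := by simp [P]

lemma P_d (m l : ℕ) (h : m ≤ l) :
    P F m l ≫ d F = Sigma.ι F.obj m - tr F m l ≫ Sigma.ι F.obj l := by
  induction l, h using Nat.le_induction with
  | base => rw [P_self, zero_comp, tr_self, Category.id_comp, sub_self]
  | succ l hl ih =>
    have : P F m (l + 1) = P F m l + tr F m l ≫ Sigma.ι F.obj l := by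
      unfold P
      rw [Finset.sum_Ico_succ_top hl]
    rw [this, Preadditive.add_comp, ih, Category.assoc, ι_d, Preadditive.comp_sub,
      ← Category.assoc, tr_comp F hl (Nat.le_succ l)]
    abel

lemma tr_P (m l : ℕ) (h : m < l) :
    tr F m (m + 1) ≫ P F (m + 1) l = P F m l - Sigma.ι F.obj m := by
  unfold P
  rw [Finset.sum_eq_sum_Ico_succ_bot h, tr_self, Category.id_comp, add_sub_cancel_left,
    Preadditive.comp_sum]
  refine Finset.sum_congr rfl fun j hj => ?_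
  rw [Finset.mem_Ico] at hj
  rw [← Category.assoc, tr_comp F (Nat.le_succ m) hj.1]

end Sums

section Next

variable (n : ℕ → ℕ) (hn : StrictMono n)

include hn

lemma exists_le (m : ℕ) : ∃ i, m ≤ n i := ⟨m, hn.le_apply⟩

open Classical in
/-- the least `i` with `m ≤ n i` -/
noncomputable def nx (m : ℕ) : ℕ := Nat.find (exists_le n hn m)

omit hn in
lemma le_nx (hn : StrictMono n) (m : ℕ) : m ≤ n (nx n hn m) := by
  classical
  exact Nat.find_spec (exists_le n hn m)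

lemma nx_eq {m i : ℕ} (h1 : m ≤ n i) (h2 : ∀ k < i, n k < m) : nx n hn m = i := by
  classical
  exact (Nat.find_eq_iff _).mpr ⟨h1, fun k hk => not_le.mpr (h2 k hk)⟩

lemma lt_of_lt_nx {m k : ℕ} (h : k < nx n hn m) : n k < m := by
  classical
  exact not_le.mp (Nat.find_min (exists_le n hn m) h)

lemma nx_apply (i : ℕ) : nx n hn (n i) = i := nx_eq n hn le_rfl fun _ hk => hn hk

lemma nx_between {j i : ℕ} (h1 : n i < j) (h2 : j ≤ n (i + 1)) : nx n hn j = i + 1 :=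
  nx_eq n hn h2 fun _ hk => lt_of_le_of_lt (hn.monotone (Nat.lt_succ_iff.mp hk)) h1

lemma nx_succ_of_ne {m : ℕ} (h : n (nx n hn m) ≠ m) : nx n hn (m + 1) = nx n hn m :=
  nx_eq n hn (lt_of_le_of_ne (le_nx n hn m) h.symm) fun _ hk => (lt_of_lt_nx n hn hk).trans (Nat.lt_succ_self m)

end Next

section Maps

variable (F : ℕ ⥤ D) (n : ℕ → ℕ) (hn : StrictMono n) [HasCoproduct F.obj]
  [HasCoproduct (fun i : ℕ => F.obj (n i))]

/-- one minus the shift, for the subsequence -/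
noncomputable abbrev d' : (∐ fun i : ℕ => F.obj (n i)) ⟶ ∐ fun i : ℕ => F.obj (n i) :=
  𝟙 _ - DerLim.shiftMap (fun i : ℕ => F.obj (n i))
    (fun i : ℕ => F.map (homOfLE (hn.monotone (Nat.le_succ i))))

omit [HasCoproduct F.obj] in
lemma ι_d' (i : ℕ) : Sigma.ι (fun i : ℕ => F.obj (n i)) i ≫ d' F n hn =
    Sigma.ι (fun i : ℕ => F.obj (n i)) i -
      tr F (n i) (n (i + 1)) ≫ Sigma.ι (fun i : ℕ => F.obj (n i)) (i + 1) := by
  rw [Preadditive.comp_sub, Category.comp_id, DerLim.shiftMap, Sigma.ι_desc,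
    tr_of_le F (hn.monotone (Nat.le_succ i))]

/-- the map `a₀` -/
noncomputable def a₀ : (∐ fun i : ℕ => F.obj (n i)) ⟶ ∐ F.obj :=
  Sigma.desc fun i => Sigma.ι F.obj (n i)

/-- the map `a₁` -/
noncomputable def a₁ : (∐ fun i : ℕ => F.obj (n i)) ⟶ ∐ F.obj :=
  Sigma.desc fun i => P F (n i) (n (i + 1))

/-- the map `b₀` -/
noncomputable def b₀ : (∐ F.obj) ⟶ ∐ fun i : ℕ => F.obj (n i) :=
  Sigma.desc fun m => tr F m (n (nx n hn m)) ≫ Sigma.ι (fun i : ℕ => F.obj (n i)) (nx n hn m)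

/-- the map `b₁` -/
noncomputable def b₁ : (∐ F.obj) ⟶ ∐ fun i : ℕ => F.obj (n i) :=
  Sigma.desc fun m => if n (nx n hn m) = m then
    tr F m (n (nx n hn m)) ≫ Sigma.ι (fun i : ℕ => F.obj (n i)) (nx n hn m) else 0

/-- the homotopy -/
noncomputable def h : (∐ F.obj) ⟶ ∐ F.obj :=
  Sigma.desc fun m => P F m (n (nx n hn m))

@[reassoc]
lemma ι_a₀ (i : ℕ) : Sigma.ι (fun i : ℕ => F.obj (n i)) i ≫ a₀ F n = Sigma.ι F.obj (n i) := by
  simp [a₀]

@[reassoc]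
lemma ι_a₁ (i : ℕ) : Sigma.ι (fun i : ℕ => F.obj (n i)) i ≫ a₁ F n = P F (n i) (n (i + 1)) := by
  simp [a₁]

@[reassoc]
lemma ι_b₀ (m : ℕ) : Sigma.ι F.obj m ≫ b₀ F n hn =
    tr F m (n (nx n hn m)) ≫ Sigma.ι (fun i : ℕ => F.obj (n i)) (nx n hn m) := by
  simp [b₀]

@[reassoc]
lemma ι_b₀' (m i : ℕ) (hi : nx n hn m = i) : Sigma.ι F.obj m ≫ b₀ F n hn =
    tr F m (n i) ≫ Sigma.ι (fun i : ℕ => F.obj (n i)) i := by
  subst hi
  exact ι_b₀ F n hn m

@[reassoc]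
lemma ι_b₁_apply (i : ℕ) : Sigma.ι F.obj (n i) ≫ b₁ F n hn =
    Sigma.ι (fun i : ℕ => F.obj (n i)) i := by
  have key : ∀ j, j = i → tr F (n i) (n j) ≫ Sigma.ι (fun i : ℕ => F.obj (n i)) j =
      Sigma.ι (fun i : ℕ => F.obj (n i)) i := by
    rintro _ rfl
    rw [tr_self, Category.id_comp]
  rw [b₁, Sigma.ι_desc, if_pos (by rw [nx_apply]), key _ (nx_apply n hn i)]

@[reassoc]
lemma ι_b₁_of_ne (m : ℕ) (hm : n (nx n hn m) ≠ m) : Sigma.ι F.obj m ≫ b₁ F n hn = 0 := by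
  rw [b₁, Sigma.ι_desc, if_neg hm]

@[reassoc]
lemma ι_h (m : ℕ) : Sigma.ι F.obj m ≫ h F n hn = P F m (n (nx n hn m)) := by
  simp [h]

lemma ι_h' (m i : ℕ) (hi : nx n hn m = i) : Sigma.ι F.obj m ≫ h F n hn = P F m (n i) := by
  subst hi
  exact ι_h F n hn m

lemma a_comm : a₁ F n ≫ d F = d' F n hn ≫ a₀ F n := by
  refine Sigma.hom_ext _ _ fun i => ?_
  rw [ι_a₁_assoc, P_d F _ _ (hn.monotone (Nat.le_succ i)), ← Category.assoc, ι_d',
    Preadditive.sub_comp, Category.assoc, ι_a₀, ι_a₀]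

lemma b_comm : b₁ F n hn ≫ d' F n hn = d F ≫ b₀ F n hn := by
  refine Sigma.hom_ext _ _ fun m => ?_
  rw [← Category.assoc (Sigma.ι F.obj m) (d F), ι_d, Preadditive.sub_comp, Category.assoc]
  by_cases hm : n (nx n hn m) = m
  · obtain ⟨i, rfl⟩ : ∃ i, n i = m := ⟨_, hm⟩
    rw [ι_b₁_apply_assoc, ι_d', ι_b₀' F n hn (n i) i (nx_apply n hn i),
      ι_b₀' F n hn (n i + 1) (i + 1) (nx_between n hn (Nat.lt_succ_self _) (hn (Nat.lt_succ_self i))),
      tr_self, Category.id_comp, ← Category.assoc, tr_comp F (Nat.le_succ _) (hn (Nat.lt_succ_self i))]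
  · rw [ι_b₁_of_ne_assoc F n hn m hm, zero_comp, ι_b₀,
      ι_b₀' F n hn (m + 1) (nx n hn m) (nx_succ_of_ne n hn hm), ← Category.assoc, tr_comp F (Nat.le_succ _)
        (lt_of_le_of_ne (le_nx n hn m) (Ne.symm hm)), sub_self]

lemma a₀_b₀ : a₀ F n ≫ b₀ F n hn = 𝟙 _ := by
  refine Sigma.hom_ext _ _ fun i => ?_
  rw [ι_a₀_assoc, ι_b₀' F n hn (n i) i (nx_apply n hn i), tr_self, Category.id_comp, Category.comp_id]

lemma a₁_b₁ : a₁ F n ≫ b₁ F n hn = 𝟙 _ := by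
  refine Sigma.hom_ext _ _ fun i => ?_
  rw [ι_a₁_assoc, P, Preadditive.sum_comp, Finset.sum_eq_single (n i)]
  · rw [tr_self, Category.id_comp, ι_b₁_apply, Category.comp_id]
  · intro j hj hji
    rw [Finset.mem_Ico] at hj
    have h1 : nx n hn j = i + 1 := nx_between n hn (lt_of_le_of_ne hj.1 (Ne.symm hji)) hj.2.le
    rw [Category.assoc, ι_b₁_of_ne F n hn j (by rw [h1]; exact hj.2.ne'), comp_zero]
  · intro hi
    exact absurd (Finset.mem_Ico.mpr ⟨le_rfl, hn (Nat.lt_succ_self i)⟩) hi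

lemma b₀_a₀ : b₀ F n hn ≫ a₀ F n = 𝟙 _ - h F n hn ≫ d F := by
  refine Sigma.hom_ext _ _ fun m => ?_
  rw [ι_b₀_assoc, ι_a₀, Preadditive.comp_sub, ι_h_assoc, P_d F _ _ (le_nx n hn m), Category.comp_id,
    sub_sub_cancel]

lemma b₁_a₁ : b₁ F n hn ≫ a₁ F n = 𝟙 _ - d F ≫ h F n hn := by
  refine Sigma.hom_ext _ _ fun m => ?_
  rw [Preadditive.comp_sub, Category.comp_id, ← Category.assoc (Sigma.ι F.obj m) (d F), ι_d,
    Preadditive.sub_comp, Category.assoc]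
  by_cases hm : n (nx n hn m) = m
  · obtain ⟨i, rfl⟩ : ∃ i, n i = m := ⟨_, hm⟩
    rw [ι_b₁_apply_assoc, ι_a₁, ι_h' F n hn (n i) i (nx_apply n hn i),
      ι_h' F n hn (n i + 1) (i + 1) (nx_between n hn (Nat.lt_succ_self _) (hn (Nat.lt_succ_self i))),
      P_self, tr_P F _ _ (hn (Nat.lt_succ_self i))]
    abel
  · rw [ι_b₁_of_ne_assoc F n hn m hm, zero_comp, ι_h,
      ι_h' F n hn (m + 1) (nx n hn m) (nx_succ_of_ne n hn hm),
      tr_P F _ _ (lt_of_le_of_ne (le_nx n hn m) (Ne.symm hm))]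
    abel

end Maps

section Triang

variable [HasZeroObject D] [HasShift D ℤ] [∀ n : ℤ, (shiftFunctor D n).Additive] [Pretriangulated D]

lemma isIso_of_comp (T : Triangle D) (hT : T ∈ distTriang D) (θ : T.obj₃ ⟶ T.obj₃)
    (h1 : T.mor₂ ≫ θ = T.mor₂) (h2 : θ ≫ T.mor₃ = T.mor₃) : IsIso θ := by
  have h3 : T.mor₂ ≫ (θ - 𝟙 _) = 0 := by
    rw [Preadditive.comp_sub, h1, Category.comp_id, sub_self]
  obtain ⟨y, hy⟩ := Triangle.yoneda_exact₃ T hT _ h3
  have h4 : (θ - 𝟙 _) ≫ (θ - 𝟙 _) = 0 := by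
    nth_rewrite 2 [hy]
    rw [← Category.assoc, Preadditive.sub_comp, h2, Category.id_comp, sub_self, zero_comp]
  have h5 : θ ≫ θ = θ + θ - 𝟙 _ := by
    have : θ ≫ θ - (θ + θ - 𝟙 _) = (θ - 𝟙 _) ≫ (θ - 𝟙 _) := by
      simp only [Preadditive.comp_sub, Preadditive.sub_comp, Category.comp_id, Category.id_comp]
      abel
    rw [h4] at this
    exact sub_eq_zero.mp this
  refine ⟨𝟙 _ + 𝟙 _ - θ, ?_, ?_⟩
  · rw [Preadditive.comp_sub, Preadditive.comp_add, Category.comp_id, h5]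
    abel
  · rw [Preadditive.sub_comp, Preadditive.add_comp, Category.id_comp, h5]
    abel

theorem main (F : ℕ ⥤ D) (n : ℕ → ℕ) (hn : StrictMono n)
    [HasCoproduct (fun m : ℕ => F.obj m)] [HasCoproduct (fun i : ℕ => F.obj (n i))]
    (L : D) (ι : ∀ m : ℕ, F.obj m ⟶ L)
    (hL : DerLim.IsHocolim (fun m : ℕ => F.obj m) (fun m : ℕ => F.map (homOfLE (Nat.le_succ m))) L ι)
    (L' : D) (ι' : ∀ i : ℕ, F.obj (n i) ⟶ L')
    (hL' : DerLim.IsHocolim (fun i : ℕ => F.obj (n i)) (fun i : ℕ => F.map (homOfLE (hn.monotone (Nat.le_succ i)))) L' ι') :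
    ∃ e : L' ≅ L, ∀ i : ℕ, ι' i ≫ e.hom = ι (n i) := by
  have : HasCoproduct F.obj := ‹HasCoproduct (fun m : ℕ => F.obj m)›
  obtain ⟨c, hc⟩ := hL
  obtain ⟨c', hc'⟩ := hL'
  obtain ⟨φ, hφ1, hφ2⟩ := complete_distinguished_triangle_morphism _ _ hc' hc (a₁ F n) (a₀ F n)
    (a_comm F n hn).symm
  obtain ⟨ψ, hψ1, hψ2⟩ := complete_distinguished_triangle_morphism _ _ hc hc' (b₁ F n hn) (b₀ F n hn)
    (b_comm F n hn).symm
  dsimp only [Triangle.mk] at φ ψ hφ1 hφ2 hψ1 hψ2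
  have i1 : IsIso (ψ ≫ φ) := by
    refine isIso_of_comp _ hc (ψ ≫ φ) ?_ ?_
    · change Sigma.desc ι ≫ ψ ≫ φ = Sigma.desc ι
      rw [← Category.assoc, hψ1, Category.assoc, hφ1, ← Category.assoc, b₀_a₀, Preadditive.sub_comp,
        Category.id_comp, Category.assoc]
      have : d F ≫ Sigma.desc ι = 0 := comp_distTriang_mor_zero₁₂ _ hc
      rw [this, comp_zero, sub_zero]
    · change (ψ ≫ φ) ≫ c = c
      rw [Category.assoc, ← hφ2, ← Category.assoc, ← hψ2, Category.assoc, ← Functor.map_comp, b₁_a₁,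
        Functor.map_sub, CategoryTheory.Functor.map_id, Functor.map_comp, Preadditive.comp_sub, Category.comp_id,
        ← Category.assoc]
      have : c ≫ (shiftFunctor D (1 : ℤ)).map (d F) = 0 := comp_distTriang_mor_zero₃₁ _ hc
      rw [this, zero_comp, sub_zero]
  have i2 : IsIso (φ ≫ ψ) := by
    refine isIso_of_comp _ hc' (φ ≫ ψ) ?_ ?_
    · change Sigma.desc ι' ≫ φ ≫ ψ = Sigma.desc ι'
      rw [← Category.assoc, hφ1, Category.assoc, hψ1, ← Category.assoc, a₀_b₀, Category.id_comp]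
    · change (φ ≫ ψ) ≫ c' = c'
      rw [Category.assoc, ← hψ2, ← Category.assoc, ← hφ2, Category.assoc, ← Functor.map_comp, a₁_b₁,
        CategoryTheory.Functor.map_id, Category.comp_id]
  have i3 : IsSplitMono φ := ⟨⟨⟨ψ ≫ inv (φ ≫ ψ), by rw [← Category.assoc, IsIso.hom_inv_id]⟩⟩⟩
  have i4 : IsSplitEpi φ := ⟨⟨⟨inv (ψ ≫ φ) ≫ ψ, by rw [Category.assoc, IsIso.inv_hom_id]⟩⟩⟩
  have i5 : IsIso φ := isIso_of_epi_of_isSplitMono φ
  refine ⟨asIso φ, fun i => ?_⟩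
  have := congr(Sigma.ι (fun i : ℕ => F.obj (n i)) i ≫ $hφ1)
  rw [← Category.assoc, Sigma.ι_desc, ι_a₀_assoc, Sigma.ι_desc] at this
  exact this

end Triang

end K733.Subseq
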